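import Groth.Agent.Lib.Helper22.SqZ.Main

/-!
# Invertible modules on a square-zero thickening (helper22)
-/

set_option autoImplicit false
set_option linter.unusedSectionVars false

universe u

open CategoryTheory CategoryTheory.Limits Opposite AlgebraicGeometry Abelian TopologicalSpace

namespace Groth.Agent.Lib.Helper22.SqZ

open Groth.Agent.Lib.Helper22.Cech Groth.Agent.Lib.Helper22.CohTop
open Groth.Agent.Lib.Helper29.QCoh
open Groth.Agent.Lib.Helper22.ZPic
open Groth.Agent.Lib.Helper2.UnitsTh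

noncomputable section

variable {X : Scheme.{u}} (J : X.IdealSheafData) (hJ : J * J = ⊥)

include hJ in
lemma surjective_subschemeι : Function.Surjective J.subschemeι := by
  have h1 : J.support = ⊤ := by
    have h := congrArg Scheme.IdealSheafData.support hJ
    rw [Scheme.IdealSheafData.support_mul, sup_idem, Scheme.IdealSheafData.support_bot] at h
    exact h
  intro x
  have h2 : x ∈ Set.range J.subschemeι := by
    rw [Scheme.IdealSheafData.range_subschemeι, h1]
    trivial
  exact h2

include hJ in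
/-- An invertible module on the closed subscheme is trivial on the preimages of a cover of `X`. -/
lemma hloc_of_invertible (L₀ : J.subscheme.Modules) (hL₀ : PicF.IsInvertible L₀) (x : X) :
    ∃ (V : X.Opens) (e : Γ(L₀, J.subschemeι ⁻¹ᵁ V)), x ∈ V ∧ IsTriv L₀ (J.subschemeι ⁻¹ᵁ V) e := by
  obtain ⟨z, rfl⟩ := surjective_subschemeι J hJ x
  obtain ⟨W, e, hzW, hT⟩ := exists_isTriv hL₀ z
  have hemb : Topology.IsClosedEmbedding J.subschemeι := J.subschemeι.isClosedEmbedding
  obtain ⟨V, hVo, hV⟩ := hemb.isInducing.isOpen_iff.1 W.2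
  have hle : J.subschemeι ⁻¹ᵁ (⟨V, hVo⟩ : X.Opens) ≤ W := by
    intro y hy
    have : y ∈ (J.subschemeι : J.subscheme → X) ⁻¹' V := hy
    rw [hV] at this
    exact this
  refine ⟨⟨V, hVo⟩, res L₀ hle e, ?_, hT.restrict hle⟩
  have : z ∈ (J.subschemeι : J.subscheme → X) ⁻¹' V := by
    rw [hV]
    exact hzW
  exact this

/-- The exponential sequence of a square-zero ideal. -/
abbrev expSC : ShortComplex (CohTop.Ab X.toTopCat) :=
  ShortComplex.mk (φJ J hJ) (UnitsSh.comap J.subschemeι) (φJ_comap J hJ)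

lemma expSC_shortExact : (expSC J hJ).ShortExact := shortExact_φJ J hJ

include hJ

lemma injective_H1_comap (h1 : Subsingleton (Coh.HH X (ClSub.idealMod J) 1)) :
    Function.Injective (Sheaf.H.map (UnitsSh.comap J.subschemeι) 1) := by
  rw [injective_iff_map_eq_zero]
  intro x hx
  obtain ⟨y, hy⟩ := ker_H_map_g (expSC_shortExact J hJ) 1 x hx
  have hy0 : y = 0 := h1.elim y 0
  rw [← hy, hy0, map_zero]

lemma surjective_H1_comap (h2 : Subsingleton (Coh.HH X (ClSub.idealMod J) 2)) :
    Function.Surjective (Sheaf.H.map (UnitsSh.comap J.subschemeι) 1) :=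
  surjective_H_map_g (expSC_shortExact J hJ) 1 h2

/-- Injectivity of `Pic(X) → Pic(X₀)` when `H¹(X, J) = 0`. -/
theorem nonempty_iso_of_pull_iso (h1 : Subsingleton (Coh.HH X (ClSub.idealMod J) 1))
    {L L' : X.Modules} (hL : PicF.IsInvertible L) (hL' : PicF.IsInvertible L')
    (φ : (Scheme.Modules.pullback J.subschemeι).obj L ≅
      (Scheme.Modules.pullback J.subschemeι).obj L') : Nonempty (L ≅ L') := by
  obtain ⟨b, hb⟩ := exists_adm L hL
  obtain ⟨b', hb'⟩ := exists_adm L' hL'
  have h := (pull_iso_iff (i := J.subschemeι) hb hb').1 ⟨φ⟩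
  exact Adm.nonempty_iso hb hb' (injective_H1_comap J hJ h1 h)

/-- Surjectivity of `Pic(X) → Pic(X₀)` when `H²(X, J) = 0`. -/
theorem exists_invertible_pull_iso (h2 : Subsingleton (Coh.HH X (ClSub.idealMod J) 2))
    (L₀ : J.subscheme.Modules) (hL₀ : PicF.IsInvertible L₀) :
    ∃ (L : X.Modules) (_ : PicF.IsInvertible L),
      Nonempty ((Scheme.Modules.pullback J.subschemeι).obj L ≅ L₀) :=
  exists_pull_iso L₀ (hloc_of_invertible J hJ L₀ hL₀) (surjective_H1_comap J hJ h2)

end

end Groth.Agent.Lib.Helper22.SqZ
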