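import Groth.Agent.Lib.Helper22.ZPic.Iso
import Groth.Agent.Lib.Helper2.UnitsTh.SqZero

/-!
# Trivialisation data for a module on `Z` relative to sheaves on `X`, along `i : Z ⟶ X` (helper22)

A variant of `ZPic.AdmData` in which the module lives on a scheme `Z` mapping to `X` and the
sheaves live on the space of `X`; the sheaf of units is replaced by `i_* O_Z^×`.
-/

set_option autoImplicit false
set_option linter.unusedSectionVars false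

universe u

open CategoryTheory CategoryTheory.Limits Opposite AlgebraicGeometry TopologicalSpace

namespace Groth.Agent.Lib.Helper22.SqZ

open Groth.Agent.Lib.Helper22.Cech
open Groth.Agent.Lib.Helper29.QCoh
open Groth.Agent.Lib.Helper22.ZPic
open Groth.Agent.Lib.Helper2.UnitsTh
open Groth.Agent.Lib.Helper22.H90 (isUnit_of_isTriv_smul)

noncomputable section

variable {X Z : Scheme.{u}} (i : Z ⟶ X)

lemma pre_mono {U V : X.Opens} (h : V ≤ U) : i ⁻¹ᵁ V ≤ i ⁻¹ᵁ U := i.preimage_mono h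

/-- Restriction of units of `Z` along preimages of opens of `X`. -/
abbrev uresZ {U V : X.Opens} (h : V ≤ U) : (Γ(Z, i ⁻¹ᵁ U))ˣ →* (Γ(Z, i ⁻¹ᵁ V))ˣ :=
  Units.map (rres Z (pre_mono i h) : Γ(Z, i ⁻¹ᵁ U) →* Γ(Z, i ⁻¹ᵁ V))

lemma sectV₁_mul {U : X.Opens} (a b : (Γ(Z, i ⁻¹ᵁ U))ˣ) :
    sectV₁ i (a * b) = sectV₁ i a + sectV₁ i b := rfl

lemma sectV₁_one {U : X.Opens} : sectV₁ i (1 : (Γ(Z, i ⁻¹ᵁ U))ˣ) = 0 := rfl

lemma sectV₁_injective {U : X.Opens} : Function.Injective (sectV₁ i (U := U)) := fun _ _ h => h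

lemma sectV₁_surjective {U : X.Opens} (s : (V₁ i).obj.obj (op U)) :
    ∃ a : (Γ(Z, i ⁻¹ᵁ U))ˣ, sectV₁ i a = s := ⟨unitV₁ i s, rfl⟩

lemma map_sectV₁ {U U' : X.Opens} (h : U' ≤ U) (a : (Γ(Z, i ⁻¹ᵁ U))ˣ) :
    rsp (V₁ i).obj h (sectV₁ i a) = sectV₁ i (uresZ i h a) := rfl

/-- The image in `i_* O_Z^×` of a unit of `X`. -/
lemma comap_uz (U : X.Opens) (a : (Γ(X, U))ˣ) :
    (UnitsSh.comap i).hom.app (op U) (uz U a) =
      sectV₁ i (Units.map ((i.app U).hom : Γ(X, U) →* Γ(Z, i ⁻¹ᵁ U)) a) := rfl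

section

variable {I₀ Q₀ : CohTop.Ab X.toTopCat} (f₀ : V₁ i ⟶ I₀) (g₀ : I₀ ⟶ Q₀)

/-- Units of `Z` over a preimage as sections of `I₀`. -/
def fzZ (U : X.Opens) (a : (Γ(Z, i ⁻¹ᵁ U))ˣ) : I₀.obj.obj (op U) :=
  f₀.hom.app (op U) (sectV₁ i a)

lemma fzZ_mul (U : X.Opens) (a b : (Γ(Z, i ⁻¹ᵁ U))ˣ) :
    fzZ i f₀ U (a * b) = fzZ i f₀ U a + fzZ i f₀ U b := by
  unfold fzZ
  rw [sectV₁_mul, map_add]

lemma fzZ_one (U : X.Opens) : fzZ i f₀ U 1 = 0 := by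
  unfold fzZ
  rw [sectV₁_one, map_zero]

lemma map_fzZ {U U' : X.Opens} (h : U' ≤ U) (a : (Γ(Z, i ⁻¹ᵁ U))ˣ) :
    rsp I₀.obj h (fzZ i f₀ U a) = fzZ i f₀ U' (uresZ i h a) := by
  unfold fzZ
  rw [rsp_naturality, map_sectV₁]

variable (hinj : ∀ T : X.Opens, Function.Injective (f₀.hom.app (op T)))
  (hzero : ∀ (T : X.Opens) (z : (V₁ i).obj.obj (op T)),
    g₀.hom.app (op T) (f₀.hom.app (op T) z) = 0)
  (hex : ∀ (T : X.Opens) (y : I₀.obj.obj (op T)), g₀.hom.app (op T) y = 0 →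
    ∃ z, f₀.hom.app (op T) z = y)

include hinj in
lemma fzZ_injective (U : X.Opens) : Function.Injective (fzZ i f₀ U) := fun _ _ h =>
  sectV₁_injective i (hinj _ h)

include hzero in
lemma g_fzZ (U : X.Opens) (a : (Γ(Z, i ⁻¹ᵁ U))ˣ) : g₀.hom.app (op U) (fzZ i f₀ U a) = 0 :=
  hzero _ _

include hex in
lemma exists_fzZ (U : X.Opens) (y : I₀.obj.obj (op U)) (hy : g₀.hom.app (op U) y = 0) :
    ∃ a, fzZ i f₀ U a = y := by
  obtain ⟨z, hz⟩ := hex _ y hy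
  obtain ⟨a, ha⟩ := sectV₁_surjective i z
  exact ⟨a, by unfold fzZ; rw [ha, hz]⟩

lemma uresZ_uresZ {U V W : X.Opens} (h : V ≤ U) (h' : W ≤ V) (a : (Γ(Z, i ⁻¹ᵁ U))ˣ) :
    uresZ i h' (uresZ i h a) = uresZ i (h'.trans h) a :=
  Units.ext (rres_rres Z (pre_mono i h) (pre_mono i h') a)

/-- Trivialisations of `L₀` (a module on `Z`) on the preimage of a pointed cover `U` of `X`, with
transition units `γ`, together with sections `t` of `I₀` lifting `b` locally whose differences are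
the images of the transition units. -/
structure AdmDataZ (L₀ : Z.Modules) (b : Q₀.obj.obj (op (⊤ : X.Opens))) (U : X → X.Opens) where
  e : ∀ x, Γ(L₀, i ⁻¹ᵁ U x)
  triv : ∀ x, IsTriv L₀ (i ⁻¹ᵁ U x) (e x)
  t : ∀ x, I₀.obj.obj (op (U x))
  gt : ∀ x, g₀.hom.app _ (t x) = rsp Q₀.obj ((le_top : U x ≤ ⊤)) b
  γ : ∀ x y, (Γ(Z, i ⁻¹ᵁ (U x ⊓ U y)))ˣ
  hγe : ∀ x y, res L₀ (pre_mono i (inf_le_right : U x ⊓ U y ≤ U y)) (e y) =
    (γ x y : Γ(Z, i ⁻¹ᵁ (U x ⊓ U y))) • res L₀ (pre_mono i (inf_le_left : U x ⊓ U y ≤ U x)) (e x)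
  hγt : ∀ x y, fzZ i f₀ (U x ⊓ U y) (γ x y) =
    rsp I₀.obj ((inf_le_right : U x ⊓ U y ≤ U y)) (t y) -
      rsp I₀.obj ((inf_le_left : U x ⊓ U y ≤ U x)) (t x)

variable {i f₀ g₀}

/-- Restriction of the data to a finer pointed cover. -/
def AdmDataZ.restrict {L₀ : Z.Modules} {b : Q₀.obj.obj (op (⊤ : X.Opens))} {U : X → X.Opens}
    (D : AdmDataZ i f₀ g₀ L₀ b U) (V : X → X.Opens) (hVU : ∀ x, V x ≤ U x) :
    AdmDataZ i f₀ g₀ L₀ b V where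
  e x := res L₀ (pre_mono i (hVU x)) (D.e x)
  triv x := (D.triv x).restrict (pre_mono i (hVU x))
  t x := rsp I₀.obj ((hVU x)) (D.t x)
  gt x := by rw [g_map, D.gt, rsp_rsp]
  γ x y := uresZ i (inf_le_inf (hVU x) (hVU y)) (D.γ x y)
  hγe x y := by
    have h := congrArg (res L₀ (pre_mono i (inf_le_inf (hVU x) (hVU y)))) (D.hγe x y)
    rw [res_smul', res_res, res_res] at h
    rw [res_res, res_res]
    exact h
  hγt x y := by
    rw [← map_fzZ, D.hγt, map_sub, rsp_rsp, rsp_rsp, rsp_rsp, rsp_rsp]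

/-- Transport of the data along an isomorphism of modules. -/
def AdmDataZ.ofIso {L₀ L₀' : Z.Modules} (φ : L₀ ≅ L₀') {b : Q₀.obj.obj (op (⊤ : X.Opens))}
    {U : X → X.Opens} (D : AdmDataZ i f₀ g₀ L₀ b U) : AdmDataZ i f₀ g₀ L₀' b U where
  e x := φ.hom.app (i ⁻¹ᵁ U x) (D.e x)
  triv x := Groth.Agent.Lib.Helper22.H90.IsTriv.of_iso φ (D.triv x)
  t := D.t
  gt := D.gt
  γ := D.γ
  hγe x y := by
    have h := congrArg (φ.hom.app (i ⁻¹ᵁ (U x ⊓ U y))) (D.hγe x y)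
    rw [Scheme.Modules.Hom.app_smul, app_res, app_res] at h
    exact h
  hγt := D.hγt

end

end

end Groth.Agent.Lib.Helper22.SqZ
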