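import Groth.Agent.Lib.Helper22.SqZ.AdmZ

/-!
# Comparison of trivialisation data along `i : Z ⟶ X` (helper22)
-/

set_option autoImplicit false
set_option linter.unusedSectionVars false

universe u

open CategoryTheory CategoryTheory.Limits Opposite AlgebraicGeometry TopologicalSpace

namespace Groth.Agent.Lib.Helper22.SqZ

open Groth.Agent.Lib.Helper22.Cech
open Groth.Agent.Lib.Helper29.QCoh
open Groth.Agent.Lib.Helper22.ZPic
open Groth.Agent.Lib.Helper2.UnitsTh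
open Groth.Agent.Lib.Helper22.H90 (isUnit_of_isTriv_smul)

noncomputable section

variable {X Z : Scheme.{u}} {i : Z ⟶ X}

lemma isTriv_smul_of_isUnit {Y : Scheme.{u}} {L : Y.Modules} {U : Y.Opens} {e : Γ(L, U)}
    (hT : IsTriv L U e) {a : Γ(Y, U)} (ha : IsUnit a) : IsTriv L U (a • e) := by
  intro W hW
  have h1 := hT W hW
  have hu : IsUnit (rres Y hW a) := ha.map _
  have h2 : Function.Bijective (fun r : Γ(Y, W) => r * rres Y hW a) :=
    IsUnit.isUnit_iff_mulRight_bijective.mp hu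
  have : (fun r : Γ(Y, W) => r • res L hW (a • e)) =
      (fun r : Γ(Y, W) => r • res L hW e) ∘ (fun r : Γ(Y, W) => r * rres Y hW a) := by
    funext r
    simp only [Function.comp_apply]
    rw [res_smul', smul_smul]
  rw [this]
  exact h1.comp h2

variable {I₀ Q₀ : CohTop.Ab X.toTopCat} {f₀ : V₁ i ⟶ I₀} {g₀ : I₀ ⟶ Q₀}

section Main

variable (hinj : ∀ T : X.Opens, Function.Injective (f₀.hom.app (op T)))
  (hzero : ∀ (T : X.Opens) (z : (V₁ i).obj.obj (op T)),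
    g₀.hom.app (op T) (f₀.hom.app (op T) z) = 0)
  (hex : ∀ (T : X.Opens) (y : I₀.obj.obj (op T)), g₀.hom.app (op T) y = 0 →
    ∃ z, f₀.hom.app (op T) z = y)

include hzero in
/-- Two admissible sections for the same module on the same cover differ by the image of a global
section of `I₀`. -/
theorem AdmDataZ.exists_diff {L₀ : Z.Modules} {b b' : Q₀.obj.obj (op (⊤ : X.Opens))}
    {U : X → X.Opens} (hxU : ∀ x, x ∈ U x) (D : AdmDataZ i f₀ g₀ L₀ b U)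
    (D' : AdmDataZ i f₀ g₀ L₀ b' U) :
    ∃ s : I₀.obj.obj (op (⊤ : X.Opens)), g₀.hom.app _ s = b' - b := by
  have hu : ∀ x, ∃ u : (Γ(Z, i ⁻¹ᵁ U x))ˣ, D'.e x = (u : Γ(Z, i ⁻¹ᵁ U x)) • D.e x := by
    intro x
    obtain ⟨a, ha⟩ := (D.triv x).exists_eq_smul (D'.e x)
    have hua : IsUnit a := isUnit_of_isTriv_smul a (D.triv x) (ha ▸ D'.triv x)
    exact ⟨hua.unit, by rw [IsUnit.unit_spec]; exact ha⟩
  choose u hu using hu
  have key : ∀ x y, D'.γ x y * uresZ i (inf_le_left : U x ⊓ U y ≤ U x) (u x) =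
      uresZ i (inf_le_right : U x ⊓ U y ≤ U y) (u y) * D.γ x y := by
    intro x y
    apply Units.ext
    apply ((D.triv x).restrict (pre_mono i (inf_le_left : U x ⊓ U y ≤ U x))).smul_left_cancel
    have h1 := D'.hγe x y
    rw [hu x, hu y, res_smul', res_smul', D.hγe x y, smul_smul, smul_smul] at h1
    exact h1.symm
  let s : ∀ x, I₀.obj.obj (op (U x)) := fun x => D'.t x - D.t x - fzZ i f₀ (U x) (u x)
  have hcompat : ∀ x y, rsp I₀.obj ((inf_le_left : U x ⊓ U y ≤ U x)) (s x) =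
      rsp I₀.obj ((inf_le_right : U x ⊓ U y ≤ U y)) (s y) := by
    intro x y
    have h1 := congrArg (fzZ i f₀ (U x ⊓ U y)) (key x y)
    rw [fzZ_mul, fzZ_mul, D.hγt, D'.hγt, ← map_fzZ, ← map_fzZ, ← sub_eq_zero] at h1
    change I₀.obj.map _ (_ - _ - _) = I₀.obj.map _ (_ - _ - _)
    rw [map_sub, map_sub, map_sub, map_sub, ← sub_eq_zero]
    refine Eq.trans ?_ (congrArg Neg.neg h1 |>.trans neg_zero)
    abel
  obtain ⟨σ, hσ⟩ := tglue U ⊤ (fun _ => le_top) (fun x _ => ⟨x, hxU x⟩) I₀ s hcompat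
  refine ⟨σ, ?_⟩
  refine tsep U ⊤ (fun _ => le_top) (fun x _ => ⟨x, hxU x⟩) Q₀ _ _ fun x => ?_
  rw [← g_map, hσ]
  change g₀.hom.app _ (_ - _ - _) = _
  rw [map_sub, map_sub, g_fzZ i f₀ g₀ hzero, sub_zero, D.gt, D'.gt, map_sub]

include hinj hex in
/-- If the difference of the sections lifts globally to `I₀`, the modules are isomorphic. -/
theorem AdmDataZ.nonempty_iso {L₀ L₀' : Z.Modules} {b b' : Q₀.obj.obj (op (⊤ : X.Opens))}
    {U : X → X.Opens} (hcov : ∀ z : Z, ∃ x, z ∈ i ⁻¹ᵁ U x) (D : AdmDataZ i f₀ g₀ L₀ b U)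
    (D' : AdmDataZ i f₀ g₀ L₀' b' U)
    (s : I₀.obj.obj (op (⊤ : X.Opens))) (hs : g₀.hom.app _ s = b' - b) :
    Nonempty (L₀ ≅ L₀') := by
  have hker : ∀ x, g₀.hom.app _ (D'.t x - D.t x - rsp I₀.obj ((le_top : U x ≤ ⊤)) s) = 0 := by
    intro x
    rw [map_sub, map_sub, g_map, hs, D.gt, D'.gt, map_sub, sub_self]
  choose h hh using fun x => exists_fzZ i f₀ g₀ hex (U x) _ (hker x)
  have key : ∀ x y, D'.γ x y * uresZ i (inf_le_left : U x ⊓ U y ≤ U x) (h x) =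
      uresZ i (inf_le_right : U x ⊓ U y ≤ U y) (h y) * D.γ x y := by
    intro x y
    apply fzZ_injective i f₀ hinj
    rw [fzZ_mul, fzZ_mul, ← map_fzZ, ← map_fzZ, hh, hh, D.hγt, D'.hγt, map_sub, map_sub, map_sub,
      map_sub, rsp_rsp, rsp_rsp]
    abel
  have hn : ∀ x, IsTriv L₀' (i ⁻¹ᵁ U x) ((↑(h x)⁻¹ : Γ(Z, i ⁻¹ᵁ U x)) • D'.e x) :=
    fun x => isTriv_smul_of_isUnit (D'.triv x) (Units.isUnit _)
  obtain ⟨φ, -⟩ := exists_iso_of_cocycle (M := L₀) (N := L₀') (U := fun x => i ⁻¹ᵁ U x)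
    (m := D.e) (n := fun x => (↑(h x)⁻¹ : Γ(Z, i ⁻¹ᵁ U x)) • D'.e x) hcov D.triv hn
    (fun x y => ⟨(↑(D.γ x y)⁻¹ : Γ(Z, i ⁻¹ᵁ (U x ⊓ U y))), by
      change res L₀ (pre_mono i (inf_le_left : U x ⊓ U y ≤ U x)) (D.e x) =
        (↑(D.γ x y)⁻¹ : Γ(Z, i ⁻¹ᵁ (U x ⊓ U y))) •
          res L₀ (pre_mono i (inf_le_right : U x ⊓ U y ≤ U y)) (D.e y)
      rw [D.hγe x y, smul_smul, Units.inv_mul, one_smul], by
      change res L₀' (pre_mono i (inf_le_left : U x ⊓ U y ≤ U x))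
          ((↑(h x)⁻¹ : Γ(Z, i ⁻¹ᵁ U x)) • D'.e x) =
        (↑(D.γ x y)⁻¹ : Γ(Z, i ⁻¹ᵁ (U x ⊓ U y))) •
          res L₀' (pre_mono i (inf_le_right : U x ⊓ U y ≤ U y))
            ((↑(h y)⁻¹ : Γ(Z, i ⁻¹ᵁ U y)) • D'.e y)
      rw [res_smul', res_smul', D'.hγe x y, smul_smul, smul_smul]
      congr 1
      have h3 : (uresZ i (inf_le_left : U x ⊓ U y ≤ U x) (h x))⁻¹ =
          (D.γ x y)⁻¹ * (uresZ i (inf_le_right : U x ⊓ U y ≤ U y) (h y))⁻¹ * D'.γ x y := by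
        have e1 : D'.γ x y = uresZ i (inf_le_right : U x ⊓ U y ≤ U y) (h y) * D.γ x y *
            (uresZ i (inf_le_left : U x ⊓ U y ≤ U x) (h x))⁻¹ := by
          rw [← key x y, mul_assoc, mul_inv_cancel, mul_one]
        rw [e1]
        group
      have h3' : uresZ i (inf_le_left : U x ⊓ U y ≤ U x) (h x)⁻¹ =
          (D.γ x y)⁻¹ * uresZ i (inf_le_right : U x ⊓ U y ≤ U y) (h y)⁻¹ * D'.γ x y := by
        rw [map_inv, map_inv]
        exact h3
      exact congrArg Units.val h3'⟩)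
  exact ⟨φ⟩

end Main

end

end Groth.Agent.Lib.Helper22.SqZ
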