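import Groth.Agent.Lib.Helper22.SqZ.AdmZ2

/-!
# Existence of trivialisation data along `i : Z ⟶ X`, and pullback of data on `X` (helper22)
-/

set_option autoImplicit false
set_option linter.unusedSectionVars false

universe u

open CategoryTheory CategoryTheory.Limits Opposite AlgebraicGeometry TopologicalSpace

namespace Groth.Agent.Lib.Helper22.SqZ

open Groth.Agent.Lib.Helper22.Cech
open Groth.Agent.Lib.Helper29.QCoh
open Groth.Agent.Lib.Helper22.ZPic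
open Groth.Agent.Lib.Helper2.UnitsTh
open Groth.Agent.Lib.Helper22.H90 (isUnit_of_isTriv_smul)

noncomputable section

variable {X Z : Scheme.{u}} {i : Z ⟶ X}

variable {I₀ Q₀ : CohTop.Ab X.toTopCat} {f₀ : V₁ i ⟶ I₀} {g₀ : I₀ ⟶ Q₀}

section Exists

variable (hzero : ∀ (T : X.Opens) (z : (V₁ i).obj.obj (op T)),
    g₀.hom.app (op T) (f₀.hom.app (op T) z) = 0)

include hzero in
/-- Every module on `Z` which is trivial on the preimages of a cover of `X` admits an admissible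
section, provided `I₀` has vanishing Čech `H¹` on Zariski covers. -/
theorem exists_admDataZ_of_locTriv
    (hacyc : ∀ (U : X → X.Opens) (c : ∀ x y, I₀.obj.obj (op (U x ⊓ U y))),
      (∀ (x y z : X) (W : X.Opens) (hx : W ≤ U x) (hy : W ≤ U y) (hz : W ≤ U z),
        rsp I₀.obj ((le_inf hx hy)) (c x y) + rsp I₀.obj ((le_inf hy hz)) (c y z) =
          rsp I₀.obj ((le_inf hx hz)) (c x z)) →
      ∃ t : ∀ x, I₀.obj.obj (op (U x)), ∀ x y, c x y =
        rsp I₀.obj ((inf_le_right : U x ⊓ U y ≤ U y)) (t y) -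
          rsp I₀.obj ((inf_le_left : U x ⊓ U y ≤ U x)) (t x))
    (L₀ : Z.Modules)
    (hloc : ∀ x : X, ∃ (V : X.Opens) (e : Γ(L₀, i ⁻¹ᵁ V)), x ∈ V ∧ IsTriv L₀ (i ⁻¹ᵁ V) e) :
    ∃ (b : Q₀.obj.obj (op (⊤ : X.Opens))) (U : X → X.Opens) (_ : ∀ x, x ∈ U x),
      Nonempty (AdmDataZ i f₀ g₀ L₀ b U) := by
  choose U e hxU hT using hloc
  have hγ : ∀ x y, ∃ γ : (Γ(Z, i ⁻¹ᵁ (U x ⊓ U y)))ˣ,
      res L₀ (pre_mono i (inf_le_right : U x ⊓ U y ≤ U y)) (e y) =
        (γ : Γ(Z, i ⁻¹ᵁ (U x ⊓ U y))) •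
          res L₀ (pre_mono i (inf_le_left : U x ⊓ U y ≤ U x)) (e x) := by
    intro x y
    obtain ⟨a, ha⟩ := ((hT x).restrict (pre_mono i (inf_le_left : U x ⊓ U y ≤ U x))).exists_eq_smul
      (res L₀ (pre_mono i (inf_le_right : U x ⊓ U y ≤ U y)) (e y))
    have hua : IsUnit a := isUnit_of_isTriv_smul a ((hT x).restrict (pre_mono i inf_le_left))
      (ha ▸ (hT y).restrict (pre_mono i inf_le_right))
    exact ⟨hua.unit, by rw [IsUnit.unit_spec]; exact ha⟩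
  choose γ hγ using hγ
  have key : ∀ (x y : X) (W : X.Opens) (hx : W ≤ U x) (hy : W ≤ U y),
      res L₀ (pre_mono i hy) (e y) =
        (uresZ i (le_inf hx hy) (γ x y) : Γ(Z, i ⁻¹ᵁ W)) • res L₀ (pre_mono i hx) (e x) := by
    intro x y W hx hy
    have h1 := congrArg (res L₀ (pre_mono i (le_inf hx hy))) (hγ x y)
    rw [res_smul', res_res, res_res] at h1
    exact h1
  obtain ⟨t, ht⟩ := hacyc U (fun x y => fzZ i f₀ (U x ⊓ U y) (γ x y)) (by
    intro x y z W hx hy hz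
    rw [map_fzZ, map_fzZ, map_fzZ, ← fzZ_mul]
    congr 1
    apply Units.ext
    apply ((hT x).restrict (pre_mono i hx)).smul_left_cancel
    rw [Units.val_mul, mul_comm, mul_smul, ← key x y W hx hy, ← key y z W hy hz,
      ← key x z W hx hz])
  have hcompat : ∀ x y, rsp Q₀.obj ((inf_le_left : U x ⊓ U y ≤ U x))
      (g₀.hom.app _ (t x)) = rsp Q₀.obj ((inf_le_right : U x ⊓ U y ≤ U y))
      (g₀.hom.app _ (t y)) := by
    intro x y
    rw [← g_map, ← g_map]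
    have h1 := congrArg (g₀.hom.app (op (U x ⊓ U y))) (ht x y)
    rw [g_fzZ i f₀ g₀ hzero, map_sub] at h1
    exact (sub_eq_zero.1 h1.symm).symm
  obtain ⟨b, hb⟩ := tglue U ⊤ (fun _ => le_top) (fun x _ => ⟨x, hxU x⟩) Q₀
    (fun x => g₀.hom.app _ (t x)) hcompat
  have hgt : ∀ x, g₀.hom.app _ (t x) = rsp Q₀.obj ((le_top : U x ≤ ⊤)) b :=
    fun x => (hb x).symm
  exact ⟨b, U, hxU, ⟨{ e := e, triv := hT, t := t, gt := hgt, γ := γ, hγe := hγ, hγt := ht }⟩⟩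

end Exists

section Pull

variable {I Q : CohTop.Ab X.toTopCat} {f : UnitsSh.unitsAb X ⟶ I} {g : I ⟶ Q}

/-- Data on `X` pulls back to data along `i`. -/
def pullZ (κ : I ⟶ I₀) (κ' : Q ⟶ Q₀)
    (h1 : f ≫ κ = UnitsSh.comap i ≫ f₀) (h2 : g ≫ κ' = κ ≫ g₀)
    {L : X.Modules} {b : Q.obj.obj (op (⊤ : X.Opens))} {U : X → X.Opens}
    (D : ZPic.AdmData f g L b U) :
    AdmDataZ i f₀ g₀ ((Scheme.Modules.pullback i).obj L) (κ'.hom.app (op ⊤) b) U where
  e x := pullSect i L (U x) (D.e x)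
  triv x := (D.triv x).pullSect i
  t x := κ.hom.app (op (U x)) (D.t x)
  gt x := by
    have e1 : g₀.hom.app (op (U x)) (κ.hom.app (op (U x)) (D.t x)) =
        κ'.hom.app (op (U x)) (g.hom.app (op (U x)) (D.t x)) :=
      (congrArg (fun ψ : I ⟶ Q₀ => ψ.hom.app (op (U x)) (D.t x)) h2).symm
    rw [e1, D.gt, rsp_naturality]
  γ x y := Units.map ((i.app (U x ⊓ U y)).hom : Γ(X, U x ⊓ U y) →* Γ(Z, i ⁻¹ᵁ (U x ⊓ U y)))
    (D.γ x y)
  hγe x y := by
    have e1 := pullSect_res i L (inf_le_right : U x ⊓ U y ≤ U y) (D.e y)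
    have e2 := pullSect_res i L (inf_le_left : U x ⊓ U y ≤ U x) (D.e x)
    change res _ (pre_mono i (inf_le_right : U x ⊓ U y ≤ U y)) (pullSect i L (U y) (D.e y)) =
      ((i.app (U x ⊓ U y)).hom (D.γ x y : Γ(X, U x ⊓ U y))) •
        res _ (pre_mono i (inf_le_left : U x ⊓ U y ≤ U x)) (pullSect i L (U x) (D.e x))
    rw [← e1, ← e2, D.hγe x y, pullSect_smul]
  hγt x y := by
    have e1 : fzZ i f₀ (U x ⊓ U y) (Units.map ((i.app (U x ⊓ U y)).hom :
        Γ(X, U x ⊓ U y) →* Γ(Z, i ⁻¹ᵁ (U x ⊓ U y))) (D.γ x y)) =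
        κ.hom.app (op (U x ⊓ U y)) (ZPic.fz f (U x ⊓ U y) (D.γ x y)) :=
      (congrArg (fun ψ : UnitsSh.unitsAb X ⟶ I₀ => ψ.hom.app (op (U x ⊓ U y))
        (uz (U x ⊓ U y) (D.γ x y))) h1).symm
    rw [e1, D.hγt, map_sub, rsp_naturality, rsp_naturality]

end Pull

end

end Groth.Agent.Lib.Helper22.SqZ
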