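import Groth.Agent.Lib.Helper22.SqZ.PicZ

/-!
# The seven-term exact sequence of a square-zero thickening (helper22)

`0 → H⁰(X, J) → Γ(X, O_X)ˣ → Γ(X₀, O_{X₀})ˣ → H¹(X, J) → Pic X → Pic X₀ → H²(X, J)`.
-/

set_option autoImplicit false
set_option linter.unusedSectionVars false

universe u

open CategoryTheory CategoryTheory.Limits Opposite AlgebraicGeometry Abelian TopologicalSpace

namespace Groth.Agent.Lib.Helper22.SqZ

open Groth.Agent.Lib.Helper22.Cech Groth.Agent.Lib.Helper22.CohTop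
open Groth.Agent.Lib.Helper29.QCoh
open Groth.Agent.Lib.Helper22.ZPic
open Groth.Agent.Lib.Helper2.UnitsTh

noncomputable section

section LES

variable {C : Type u} [SmallCategory C] {J : GrothendieckTopology C}
variable {S : ShortComplex (Sheaf J AddCommGrpCat.{u})} (hS : S.ShortExact)

/-- The connecting homomorphism of the long exact cohomology sequence. -/
def Hδ (n : ℕ) : Sheaf.H.{u} S.X₃ n →+ Sheaf.H.{u} S.X₁ (n + 1) :=
  AddMonoidHom.mk' (fun x => x.comp hS.extClass rfl) (fun _ _ => Abelian.Ext.add_comp _ _ _ _)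

lemma Hδ_apply (n : ℕ) (x : Sheaf.H.{u} S.X₃ n) : Hδ hS n x = x.comp hS.extClass rfl := rfl

lemma Hδ_map_g (n : ℕ) (y : Sheaf.H.{u} S.X₂ n) : Hδ hS n (Sheaf.H.map S.g n y) = 0 := by
  rw [Hδ_apply, Sheaf.H.map_apply, Abelian.Ext.comp_assoc_of_second_deg_zero,
    hS.comp_extClass, Abelian.Ext.comp_zero]

lemma ker_Hδ (n : ℕ) (x : Sheaf.H.{u} S.X₃ n) (hx : Hδ hS n x = 0) :
    ∃ y : Sheaf.H.{u} S.X₂ n, Sheaf.H.map S.g n y = x :=
  Abelian.Ext.covariant_sequence_exact₃ _ hS x rfl hx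

lemma map_f_Hδ (n : ℕ) (x : Sheaf.H.{u} S.X₃ n) :
    Sheaf.H.map S.f (n + 1) (Hδ hS n x) = 0 := by
  rw [Hδ_apply, Sheaf.H.map_apply, Abelian.Ext.comp_assoc_of_third_deg_zero,
    hS.extClass_comp, Abelian.Ext.comp_zero]

lemma ker_map_f (n : ℕ) (y : Sheaf.H.{u} S.X₁ (n + 1)) (hy : Sheaf.H.map S.f (n + 1) y = 0) :
    ∃ x : Sheaf.H.{u} S.X₃ n, Hδ hS n x = y :=
  Abelian.Ext.covariant_sequence_exact₁ _ hS y hy rfl

end LES

variable {X : Scheme.{u}} (J : X.IdealSheafData) (hJ : J * J = ⊥)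

section Compat

variable [PicGrp.Law X] [PicGrp.Law J.subscheme] (hi : PicGrp.PullMul J.subschemeι)
  (Φ : Additive (PicLoc.PicSet X) ≃+ CohTop.H (UnitsSh.unitsAb X) 1)
  (hΦ : ∀ (L : X.Modules) (hL : PicF.IsInvertible L) b, Adm L b →
    Φ (Additive.ofMul (PicGrp.cls L hL)) = dU X b)
  (Ψ : Additive (PicLoc.PicSet J.subscheme) →+ CohTop.H (V₁ J.subschemeι) 1)
  (hΨ : ∀ (L₀ : J.subscheme.Modules) (hL₀ : PicF.IsInvertible L₀) b, AdmZ J.subschemeι L₀ b →
        Ψ (Additive.ofMul (PicGrp.cls L₀ hL₀)) = dZ J.subschemeι b)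

include hΦ hΨ in
/-- The class maps are compatible with pullback. -/
lemma map_comap_class (c : PicLoc.PicSet X) :
    Sheaf.H.map (UnitsSh.comap J.subschemeι) 1 (Φ (Additive.ofMul c)) =
      Ψ (Additive.ofMul (PicGrp.pullHom J.subschemeι hi c)) := by
  obtain ⟨L, hL, rfl⟩ := PicGrp.exists_eq_cls c
  obtain ⟨b, hb⟩ := exists_adm L hL
  rw [hΦ L hL b hb, PicGrp.pullHom_cls, hΨ _ _ (qMap J.subschemeι b) (adm_pull hb), dZ_qMap]

end Compat

include hJ in
/-- **The seven-term exact sequence of a square-zero thickening.** -/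
theorem exists_exact_seq [PicGrp.Law X] [PicGrp.Law J.subscheme]
    (hi : PicGrp.PullMul J.subschemeι) :
    ∃ (ε : Multiplicative (Coh.HH X (ClSub.idealMod J) 0) →* (Γ(X, ⊤))ˣ)
      (δ₀ : (Γ(J.subscheme, ⊤))ˣ →* Multiplicative (Coh.HH X (ClSub.idealMod J) 1))
      (α : Multiplicative (Coh.HH X (ClSub.idealMod J) 1) →* PicLoc.PicSet X)
      (δ₁ : PicLoc.PicSet J.subscheme →* Multiplicative (Coh.HH X (ClSub.idealMod J) 2)),
      Function.Injective ε ∧
      (Units.map J.subschemeι.appTop.hom.toMonoidHom).ker = ε.range ∧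
      δ₀.ker = (Units.map J.subschemeι.appTop.hom.toMonoidHom).range ∧
      α.ker = δ₀.range ∧
      (PicGrp.pullHom J.subschemeι hi).ker = α.range ∧
      δ₁.ker = (PicGrp.pullHom J.subschemeι hi).range := by
  have hS := expSC_shortExact J hJ
  obtain ⟨Φ, hΦ⟩ := exists_picIso_spec X
  obtain ⟨Ψ, hΨinj, hΨ⟩ := exists_picZ_hom J hJ
  have hcompat := map_comap_class J hi Φ hΦ Ψ hΨ
  have hT : IsTerminal (⊤ : Opens X.toTopCat) := isTerminalTop
  -- identifications of `H⁰` with groups of units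
  let uB : Sheaf.H (UnitsSh.unitsAb X) 0 ≃+ Additive (Γ(X, ⊤))ˣ :=
    Sheaf.H.equiv₀ (UnitsSh.unitsAb X) hT
  let uC : Sheaf.H (V₁ J.subschemeι) 0 ≃+ Additive (Γ(J.subscheme, ⊤))ˣ :=
    Sheaf.H.equiv₀ (V₁ J.subschemeι) hT
  let r : (Γ(X, ⊤))ˣ →* (Γ(J.subscheme, ⊤))ˣ := Units.map J.subschemeι.appTop.hom.toMonoidHom
  have hnat : ∀ y, uC (Sheaf.H.map (UnitsSh.comap J.subschemeι) 0 y) =
      Additive.ofMul (r (uB y).toMul) := fun y =>
    (Sheaf.H.equiv₀_naturality hT (UnitsSh.comap J.subschemeι) y).symm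
  let f0 : Coh.HH X (ClSub.idealMod J) 0 →+ Sheaf.H (UnitsSh.unitsAb X) 0 :=
    Sheaf.H.map (φJ J hJ) 0
  let g0 : Sheaf.H (UnitsSh.unitsAb X) 0 →+ Sheaf.H (V₁ J.subschemeι) 0 :=
    Sheaf.H.map (UnitsSh.comap J.subschemeι) 0
  let d0 : Sheaf.H (V₁ J.subschemeι) 0 →+ Coh.HH X (ClSub.idealMod J) 1 := Hδ hS 0
  let f1 : Coh.HH X (ClSub.idealMod J) 1 →+ Sheaf.H (UnitsSh.unitsAb X) 1 :=
    Sheaf.H.map (φJ J hJ) 1
  let g1 : Sheaf.H (UnitsSh.unitsAb X) 1 →+ Sheaf.H (V₁ J.subschemeι) 1 :=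
    Sheaf.H.map (UnitsSh.comap J.subschemeι) 1
  let d1 : Sheaf.H (V₁ J.subschemeι) 1 →+ Coh.HH X (ClSub.idealMod J) 2 := Hδ hS 1
  -- exactness of the cohomology sequence
  have hf0 : Function.Injective f0 := injective_H_map_f_zero (S := expSC J hJ) hS
  have hfg0 : ∀ m, g0 (f0 m) = 0 := fun m => H_map_f_g (S := expSC J hJ) 0 m
  have hkg0 : ∀ y, g0 y = 0 → ∃ m, f0 m = y := fun y hy => ker_H_map_g (S := expSC J hJ) hS 0 y hy
  have hgd0 : ∀ y, d0 (g0 y) = 0 := fun y => Hδ_map_g (S := expSC J hJ) hS 0 y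
  have hkd0 : ∀ z, d0 z = 0 → ∃ y, g0 y = z := fun z hz => ker_Hδ (S := expSC J hJ) hS 0 z hz
  have hdf0 : ∀ z, f1 (d0 z) = 0 := fun z => map_f_Hδ (S := expSC J hJ) hS 0 z
  have hkf1 : ∀ m, f1 m = 0 → ∃ z, d0 z = m := fun m hm => ker_map_f (S := expSC J hJ) hS 0 m hm
  have hfg1 : ∀ m, g1 (f1 m) = 0 := fun m => H_map_f_g (S := expSC J hJ) 1 m
  have hkg1 : ∀ y, g1 y = 0 → ∃ m, f1 m = y := fun y hy => ker_H_map_g (S := expSC J hJ) hS 1 y hy
  have hgd1 : ∀ y, d1 (g1 y) = 0 := fun y => Hδ_map_g (S := expSC J hJ) hS 1 y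
  have hkd1 : ∀ z, d1 z = 0 → ∃ y, g1 y = z := fun z hz => ker_Hδ (S := expSC J hJ) hS 1 z hz
  -- the four maps
  let ε : Multiplicative (Coh.HH X (ClSub.idealMod J) 0) →* (Γ(X, ⊤))ˣ :=
    AddMonoidHom.toMultiplicativeLeft (uB.toAddMonoidHom.comp f0)
  let δ₀ : (Γ(J.subscheme, ⊤))ˣ →* Multiplicative (Coh.HH X (ClSub.idealMod J) 1) :=
    AddMonoidHom.toMultiplicativeRight (d0.comp uC.symm.toAddMonoidHom)
  let α : Multiplicative (Coh.HH X (ClSub.idealMod J) 1) →* PicLoc.PicSet X :=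
    AddMonoidHom.toMultiplicativeLeft (Φ.symm.toAddMonoidHom.comp f1)
  let δ₁ : PicLoc.PicSet J.subscheme →* Multiplicative (Coh.HH X (ClSub.idealMod J) 2) :=
    AddMonoidHom.toMultiplicativeRight (d1.comp Ψ)
  have hε : ∀ m, ε m = (uB (f0 m.toAdd)).toMul := fun m => rfl
  have hδ₀ : ∀ v, δ₀ v = Multiplicative.ofAdd (d0 (uC.symm (Additive.ofMul v))) := fun v => rfl
  have hα : ∀ m, α m = (Φ.symm (f1 m.toAdd)).toMul := fun m => rfl
  have hδ₁ : ∀ c, δ₁ c = Multiplicative.ofAdd (d1 (Ψ (Additive.ofMul c))) := fun c => rfl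
  have hΦα : ∀ m, Φ (Additive.ofMul (α m)) = f1 m.toAdd := fun m => Φ.apply_symm_apply _
  refine ⟨ε, δ₀, α, δ₁, ?_, ?_, ?_, ?_, ?_, ?_⟩
  · -- injectivity of ε
    intro m m' h
    rw [hε, hε] at h
    exact Multiplicative.toAdd.injective (hf0 (uB.injective (Additive.toMul.injective h)))
  · -- exactness at `Γ(X, O_X)ˣ`
    ext u
    rw [MonoidHom.mem_ker, MonoidHom.mem_range]
    obtain ⟨y, rfl⟩ : ∃ y, (uB y).toMul = u := ⟨uB.symm (Additive.ofMul u), by
      rw [AddEquiv.apply_symm_apply]; rfl⟩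
    constructor
    · intro hu
      have h1 : uC (g0 y) = 0 := by
        rw [hnat y]
        exact congrArg Additive.ofMul hu
      have h2 : g0 y = 0 := by
        apply uC.injective
        rw [h1, map_zero]
      obtain ⟨m, hm⟩ := hkg0 y h2
      exact ⟨Multiplicative.ofAdd m, by rw [hε]; exact congrArg (fun t => (uB t).toMul) hm⟩
    · rintro ⟨m, hm⟩
      rw [hε] at hm
      have h1 : f0 m.toAdd = y := uB.injective (Additive.toMul.injective hm)
      have h2 : uC (g0 y) = 0 := by rw [← h1, hfg0, map_zero]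
      rw [hnat y] at h2
      exact congrArg Additive.toMul h2
  · -- exactness at `Γ(X₀, O_{X₀})ˣ`
    ext v
    rw [MonoidHom.mem_ker, MonoidHom.mem_range, hδ₀]
    constructor
    · intro hv
      have h1 : d0 (uC.symm (Additive.ofMul v)) = 0 := Multiplicative.ofAdd.injective hv
      obtain ⟨y, hy⟩ := hkd0 _ h1
      refine ⟨(uB y).toMul, ?_⟩
      have h2 := hnat y
      rw [show Sheaf.H.map (UnitsSh.comap J.subschemeι) 0 y = g0 y from rfl, hy,
        AddEquiv.apply_symm_apply] at h2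
      exact (congrArg Additive.toMul h2).symm
    · rintro ⟨u, rfl⟩
      have h1 : uC.symm (Additive.ofMul (r u)) = g0 (uB.symm (Additive.ofMul u)) := by
        apply uC.injective
        rw [AddEquiv.apply_symm_apply]
        have h2 := hnat (uB.symm (Additive.ofMul u))
        rw [AddEquiv.apply_symm_apply] at h2
        exact h2.symm
      change Multiplicative.ofAdd (d0 (uC.symm (Additive.ofMul (r u)))) = 1
      rw [h1, hgd0]
      rfl
  · -- exactness at `H¹(X, J)`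
    ext m
    rw [MonoidHom.mem_ker, MonoidHom.mem_range]
    constructor
    · intro hm
      have h1 : f1 m.toAdd = 0 := by
        rw [← hΦα, hm]
        exact map_zero Φ
      obtain ⟨z, hz⟩ := hkf1 _ h1
      refine ⟨(uC z).toMul, ?_⟩
      rw [hδ₀]
      have : uC.symm (Additive.ofMul (uC z).toMul) = z := uC.symm_apply_apply z
      rw [this, hz]
      rfl
    · rintro ⟨v, rfl⟩
      rw [hα, hδ₀]
      change (Φ.symm (f1 (d0 (uC.symm (Additive.ofMul v))))).toMul = 1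
      rw [hdf0, map_zero]
      rfl
  · -- exactness at `Pic X`
    ext c
    rw [mem_ker_pullHom_iff J hi Φ hΦ, MonoidHom.mem_range]
    constructor
    · intro hc
      obtain ⟨m, hm⟩ := hkg1 _ hc
      refine ⟨Multiplicative.ofAdd m, ?_⟩
      rw [hα]
      change (Φ.symm (f1 m)).toMul = c
      rw [hm, AddEquiv.symm_apply_apply]
      rfl
    · rintro ⟨m, rfl⟩
      rw [hΦα]
      exact hfg1 _
  · -- exactness at `Pic X₀`
    ext c₀
    rw [MonoidHom.mem_ker, MonoidHom.mem_range, hδ₁]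
    constructor
    · intro hc
      have h1 : d1 (Ψ (Additive.ofMul c₀)) = 0 := Multiplicative.ofAdd.injective hc
      obtain ⟨y, hy⟩ := hkd1 _ h1
      refine ⟨(Φ.symm y).toMul, ?_⟩
      have h2 := hcompat (Φ.symm y).toMul
      rw [show Additive.ofMul (Φ.symm y).toMul = Φ.symm y from rfl, AddEquiv.apply_symm_apply,
        show Sheaf.H.map (UnitsSh.comap J.subschemeι) 1 y = g1 y from rfl, hy] at h2
      exact Additive.ofMul.injective (hΨinj h2).symm
    · rintro ⟨c, rfl⟩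
      rw [← hcompat c]
      change Multiplicative.ofAdd (d1 (g1 _)) = 1
      rw [hgd1]
      rfl

end

end Groth.Agent.Lib.Helper22.SqZ
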