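import Groth.Agent.Lib.Helper22.SqZ.Nat

/-!
# Classes of invertible modules and pullback along `i : Z ⟶ X` (helper22)
-/

set_option autoImplicit false
set_option linter.unusedSectionVars false

universe u

open CategoryTheory CategoryTheory.Limits Opposite AlgebraicGeometry Abelian TopologicalSpace

namespace Groth.Agent.Lib.Helper22.SqZ

open Groth.Agent.Lib.Helper22.Cech Groth.Agent.Lib.Helper22.CohTop
open Groth.Agent.Lib.Helper29.QCoh
open Groth.Agent.Lib.Helper22.ZPic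
open Groth.Agent.Lib.Helper2.UnitsTh

noncomputable section

section General

variable {Y : TopCat.{u}} (F : CohTop.Ab Y)

lemma i_hinj (T : Opens Y) : Function.Injective ((injSC F).f.hom.app (op T)) := by
  have hmono : Mono (injSC F).f := (injSC_shortExact _).mono_f
  exact CohTop.injective_app_of_mono _ T

lemma i_hzero (T : Opens Y) (z : F.obj.obj (op T)) :
    (injSC F).g.hom.app (op T) ((injSC F).f.hom.app (op T) z) = 0 := by
  have h6 := (injSC F).zero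
  exact congrArg (fun ψ : (injSC F).X₁ ⟶ (injSC F).X₃ => ψ.hom.app (op T) z) h6

lemma i_hex (T : Opens Y) (y : (injSC F).X₂.obj.obj (op T))
    (hy : (injSC F).g.hom.app (op T) y = 0) : ∃ z, (injSC F).f.hom.app (op T) z = y := by
  have hS := injSC_shortExact F
  have hmono : Mono (injSC F).f := hS.mono_f
  exact TopCat.Sheaf.sections_exact_of_left_exact hS.1 hmono y hy

lemma i_hacyc {ι : Type u} (U : ι → Opens Y)
    (c : ∀ i j, (injSC F).X₂.obj.obj (op (U i ⊓ U j)))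
    (hc : ∀ (i j k : ι) (W : Opens Y) (hi : W ≤ U i) (hj : W ≤ U j) (hk : W ≤ U k),
      rsp (injSC F).X₂.obj (le_inf hi hj) (c i j) +
        rsp (injSC F).X₂.obj (le_inf hj hk) (c j k) =
          rsp (injSC F).X₂.obj (le_inf hi hk) (c i k)) :
    ∃ t : ∀ i, (injSC F).X₂.obj.obj (op (U i)), ∀ i j, c i j =
      rsp (injSC F).X₂.obj (inf_le_right : U i ⊓ U j ≤ U j) (t j) -
        rsp (injSC F).X₂.obj (inf_le_left : U i ⊓ U j ≤ U i) (t i) :=
  exists_coboundary_of_acyc (X := Y) U (injSC F).X₂.obj c hc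
    (acyc_of_injective_sheaf U (injSC F).X₂ 0)

end General

variable {X Z : Scheme.{u}} (i : Z ⟶ X)

/-- `b` is the section of `I₀/i_*O_Z^×` attached to `L₀` by some choice of local trivialisations. -/
def AdmZ (L₀ : Z.Modules) (b : (injSC (V₁ i)).X₃.obj.obj (op (⊤ : X.Opens))) : Prop :=
  ∃ (U : X → X.Opens) (_ : ∀ x, x ∈ U x),
    Nonempty (AdmDataZ i (injSC (V₁ i)).f (injSC (V₁ i)).g L₀ b U)

/-- The connecting map `Q₀(X) → H¹(X, i_* O_Z^×)`. -/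
abbrev dZ : (injSC (V₁ i)).X₃.obj.obj (op (⊤ : X.Opens)) →+ CohTop.H (V₁ i) 1 :=
  delta (V₁ i)

/-- The map on `Q` induced by `O_X^× ⟶ i_* O_Z^×`. -/
abbrev qMap : (injSC (UnitsSh.unitsAb X)).X₃.obj.obj (op (⊤ : X.Opens)) →+
    (injSC (V₁ i)).X₃.obj.obj (op (⊤ : X.Opens)) :=
  ((iMap (UnitsSh.comap i)).τ₃.hom.app (op (⊤ : X.Opens))).hom

lemma dZ_qMap (b : (injSC (UnitsSh.unitsAb X)).X₃.obj.obj (op (⊤ : X.Opens))) :
    dZ i (qMap i b) = Sheaf.H.map (UnitsSh.comap i) 1 (dU X b) :=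
  (delta_natural (UnitsSh.comap i) b).symm

variable {i}

lemma adm_pull {L : X.Modules} {b : (injSC (UnitsSh.unitsAb X)).X₃.obj.obj (op (⊤ : X.Opens))}
    (h : Adm L b) : AdmZ i ((Scheme.Modules.pullback i).obj L) (qMap i b) := by
  obtain ⟨U, hxU, ⟨D⟩⟩ := h
  exact ⟨U, hxU, ⟨pullZ (iMap (UnitsSh.comap i)).τ₂ (iMap (UnitsSh.comap i)).τ₃
    (iMap (UnitsSh.comap i)).comm₁₂.symm (iMap (UnitsSh.comap i)).comm₂₃.symm D⟩⟩

lemma AdmZ.delta_eq {L₀ L₀' : Z.Modules}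
    {b b' : (injSC (V₁ i)).X₃.obj.obj (op (⊤ : X.Opens))}
    (h : AdmZ i L₀ b) (h' : AdmZ i L₀' b') (φ : L₀ ≅ L₀') : dZ i b = dZ i b' := by
  obtain ⟨U, hxU, ⟨D⟩⟩ := h
  obtain ⟨U', hxU', ⟨D'⟩⟩ := h'
  let V : X → X.Opens := fun x => U x ⊓ U' x
  have hxV : ∀ x, x ∈ V x := fun x => ⟨hxU x, hxU' x⟩
  obtain ⟨s, hs⟩ := AdmDataZ.exists_diff (i_hzero (V₁ i)) hxV
    ((D.ofIso φ).restrict V fun _ => inf_le_left) (D'.restrict V fun _ => inf_le_right)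
  have h0 : dZ i (b' - b) = 0 := (delta_eq_zero_iff _ _).2 ⟨s, hs⟩
  rw [map_sub, sub_eq_zero] at h0
  exact h0.symm

lemma AdmZ.nonempty_iso {L₀ L₀' : Z.Modules}
    {b b' : (injSC (V₁ i)).X₃.obj.obj (op (⊤ : X.Opens))}
    (h : AdmZ i L₀ b) (h' : AdmZ i L₀' b') (hd : dZ i b = dZ i b') : Nonempty (L₀ ≅ L₀') := by
  obtain ⟨U, hxU, ⟨D⟩⟩ := h
  obtain ⟨U', hxU', ⟨D'⟩⟩ := h'
  let V : X → X.Opens := fun x => U x ⊓ U' x
  have hxV : ∀ x, x ∈ V x := fun x => ⟨hxU x, hxU' x⟩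
  have h0 : dZ i (b' - b) = 0 := by rw [map_sub, hd, sub_self]
  obtain ⟨s, hs⟩ := (delta_eq_zero_iff _ _).1 h0
  exact AdmDataZ.nonempty_iso (U := V) (i_hinj (V₁ i)) (i_hex (V₁ i))
    (fun z => ⟨i z, hxV (i z)⟩)
    (D.restrict V fun _ => inf_le_left) (D'.restrict V fun _ => inf_le_right) s hs

variable (i) in
lemma exists_admZ (L₀ : Z.Modules)
    (hloc : ∀ x : X, ∃ (V : X.Opens) (e : Γ(L₀, i ⁻¹ᵁ V)), x ∈ V ∧ IsTriv L₀ (i ⁻¹ᵁ V) e) :
    ∃ b, AdmZ i L₀ b := by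
  obtain ⟨b, U, hxU, hD⟩ := exists_admDataZ_of_locTriv
    (f₀ := (injSC (V₁ i)).f) (g₀ := (injSC (V₁ i)).g)
    (i_hzero (V₁ i)) (i_hacyc (V₁ i)) L₀ hloc
  exact ⟨b, U, hxU, hD⟩

/-- Pullbacks of invertible modules are isomorphic iff their classes agree in
`H¹(X, i_* O_Z^×)`. -/
theorem pull_iso_iff {L L' : X.Modules}
    {b b' : (injSC (UnitsSh.unitsAb X)).X₃.obj.obj (op (⊤ : X.Opens))}
    (h : Adm L b) (h' : Adm L' b') :
    Nonempty ((Scheme.Modules.pullback i).obj L ≅ (Scheme.Modules.pullback i).obj L') ↔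
      Sheaf.H.map (UnitsSh.comap i) 1 (dU X b) = Sheaf.H.map (UnitsSh.comap i) 1 (dU X b') := by
  rw [← dZ_qMap, ← dZ_qMap]
  constructor
  · rintro ⟨φ⟩
    exact (adm_pull h).delta_eq (adm_pull h') φ
  · intro hd
    exact (adm_pull h).nonempty_iso (adm_pull h') hd

/-- If `H¹(X, O_X^×) → H¹(X, i_* O_Z^×)` is surjective, every module on `Z` which is trivial on
the preimages of a cover of `X` is the pullback of an invertible module on `X`. -/
theorem exists_pull_iso (L₀ : Z.Modules)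
    (hloc : ∀ x : X, ∃ (V : X.Opens) (e : Γ(L₀, i ⁻¹ᵁ V)), x ∈ V ∧ IsTriv L₀ (i ⁻¹ᵁ V) e)
    (hsurj : Function.Surjective (Sheaf.H.map (UnitsSh.comap i) 1)) :
    ∃ (L : X.Modules) (_ : PicF.IsInvertible L),
      Nonempty ((Scheme.Modules.pullback i).obj L ≅ L₀) := by
  obtain ⟨b₀, hb₀⟩ := exists_admZ i L₀ hloc
  obtain ⟨c, hc⟩ := hsurj (dZ i b₀)
  obtain ⟨L, hL, b, hb, hbc⟩ := exists_adm_of_class c
  refine ⟨L, hL, (adm_pull hb).nonempty_iso hb₀ ?_⟩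
  rw [dZ_qMap, hbc, hc]

end

end Groth.Agent.Lib.Helper22.SqZ
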