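import Groth.Agent.Lib.Helper22.SqZ.AdmZ3
import Groth.Agent.Lib.Helper22.ExtCompareNat

/-!
# Naturality of the connecting map `Q(Y) → H¹(F)`; the class of an invertible module (helper22)
-/

set_option autoImplicit false
set_option linter.unusedSectionVars false

universe u

open CategoryTheory CategoryTheory.Limits Opposite AlgebraicGeometry Abelian TopologicalSpace

namespace Groth.Agent.Lib.Helper22.SqZ

open Groth.Agent.Lib.Helper22.Cech Groth.Agent.Lib.Helper22.CohTop
open Groth.Agent.Lib.Helper29.QCoh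
open Groth.Agent.Lib.Helper22.ZPic
open Groth.Agent.Lib.Helper2.UnitsTh
open Groth.Agent.Lib.Helper22.H90 (isUnit_of_isTriv_smul)

noncomputable section

section Delta

variable {Y : TopCat.{u}}

/-- The chosen extension of a morphism to injective presentations. -/
def iMap {F F' : CohTop.Ab Y} (ρ : F ⟶ F') : injSC F ⟶ injSC F' :=
  ExtCompare.injSCMap ρ

lemma iMap_τ₁ {F F' : CohTop.Ab Y} (ρ : F ⟶ F') : (iMap ρ).τ₁ = ρ := rfl

/-- The connecting map is natural. -/
lemma delta_natural {F F' : CohTop.Ab Y} (ρ : F ⟶ F')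
    (b : (injSC F).X₃.obj.obj (op (⊤ : Opens Y))) :
    Sheaf.H.map ρ 1 (delta F b) = delta F' ((iMap ρ).τ₃.hom.app (op (⊤ : Opens Y)) b) := by
  have h1 := ExtCompare.dl_natural (ZT Y) 0 (injSC_shortExact F) (injSC_shortExact F') (iMap ρ)
    ((Sheaf.H.equiv₀ (injSC F).X₃ (isTerminalTop : IsTerminal (⊤ : Opens Y))).symm b)
  have h2 := Sheaf.H.equiv₀_symm_naturality
    (hT := (isTerminalTop : IsTerminal (⊤ : Opens Y))) (iMap ρ).τ₃ b
  rw [Sheaf.H.map_apply] at h2
  rw [Sheaf.H.map_apply, delta_apply, delta_apply, ← h2]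
  exact h1

end Delta

variable {X : Scheme.{u}}

section XSide

variable {I Q : CohTop.Ab X.toTopCat} {f : UnitsSh.unitsAb X ⟶ I} {g : I ⟶ Q}
  (hinj : ∀ T : X.Opens, Function.Injective (f.hom.app (op T)))
  (hex : ∀ (T : X.Opens) (y : I.obj.obj (op T)), g.hom.app (op T) y = 0 →
    ∃ z, f.hom.app (op T) z = y)

include hinj hex in
/-- If the difference of the sections lifts globally to `I`, the modules are isomorphic. -/
theorem nonempty_iso_of_admData {L L' : X.Modules} {b b' : Q.obj.obj (op (⊤ : X.Opens))}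
    {U : X → X.Opens} (hxU : ∀ x, x ∈ U x) (D : AdmData f g L b U)
    (D' : AdmData f g L' b' U)
    (s : I.obj.obj (op (⊤ : X.Opens))) (hs : g.hom.app _ s = b' - b) :
    Nonempty (L ≅ L') := by
  have hker : ∀ x, g.hom.app _ (D'.t x - D.t x - rsp I.obj ((le_top : U x ≤ ⊤)) s) = 0 := by
    intro x
    rw [map_sub, map_sub, g_map, hs, D.gt, D'.gt, map_sub, sub_self]
  choose h hh using fun x => exists_fz f g hex (U x) _ (hker x)
  have key : ∀ x y, D'.γ x y * ures (inf_le_left : U x ⊓ U y ≤ U x) (h x) =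
      ures (inf_le_right : U x ⊓ U y ≤ U y) (h y) * D.γ x y := by
    intro x y
    apply fz_injective f hinj
    rw [fz_mul, fz_mul, ← map_fz, ← map_fz, hh, hh, D.hγt, D'.hγt, map_sub, map_sub, map_sub,
      map_sub, rsp_rsp, rsp_rsp]
    abel
  have hn : ∀ x, IsTriv L' (U x) ((↑(h x)⁻¹ : Γ(X, U x)) • D'.e x) :=
    fun x => isTriv_smul_of_isUnit (D'.triv x) (Units.isUnit _)
  obtain ⟨φ, -⟩ := exists_iso_of_cocycle (M := L) (N := L') (U := U)
    (m := D.e) (n := fun x => (↑(h x)⁻¹ : Γ(X, U x)) • D'.e x) (fun x => ⟨x, hxU x⟩) D.triv hn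
    (fun x y => ⟨(↑(D.γ x y)⁻¹ : Γ(X, U x ⊓ U y)), by
      rw [D.hγe x y, smul_smul, Units.inv_mul, one_smul], by
      rw [res_smul', res_smul', D'.hγe x y, smul_smul, smul_smul]
      congr 1
      have h3 : (ures (inf_le_left : U x ⊓ U y ≤ U x) (h x))⁻¹ =
          (D.γ x y)⁻¹ * (ures (inf_le_right : U x ⊓ U y ≤ U y) (h y))⁻¹ * D'.γ x y := by
        have e1 : D'.γ x y = ures (inf_le_right : U x ⊓ U y ≤ U y) (h y) * D.γ x y *
            (ures (inf_le_left : U x ⊓ U y ≤ U x) (h x))⁻¹ := by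
          rw [← key x y, mul_assoc, mul_inv_cancel, mul_one]
        rw [e1]
        group
      have h3' : ures (inf_le_left : U x ⊓ U y ≤ U x) (h x)⁻¹ =
          (D.γ x y)⁻¹ * ures (inf_le_right : U x ⊓ U y ≤ U y) (h y)⁻¹ * D'.γ x y := by
        rw [map_inv, map_inv]
        exact h3
      exact congrArg Units.val h3'⟩)
  exact ⟨φ⟩

end XSide

/-- Modules with the same class in `H¹(X, O_X^×)` are isomorphic. -/
lemma Adm.nonempty_iso {L L' : X.Modules}
    {b b' : (injSC (UnitsSh.unitsAb X)).X₃.obj.obj (op (⊤ : X.Opens))}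
    (h : Adm L b) (h' : Adm L' b') (hd : dU X b = dU X b') : Nonempty (L ≅ L') := by
  obtain ⟨U, hxU, ⟨D⟩⟩ := h
  obtain ⟨U', hxU', ⟨D'⟩⟩ := h'
  let V : X → X.Opens := fun x => U x ⊓ U' x
  have hxV : ∀ x, x ∈ V x := fun x => ⟨hxU x, hxU' x⟩
  have h0 : dU X (b' - b) = 0 := by rw [map_sub, hd, sub_self]
  obtain ⟨s, hs⟩ := (delta_eq_zero_iff _ _).1 h0
  exact nonempty_iso_of_admData u_hinj u_hex hxV (D.restrict V fun _ => inf_le_left)
    (D'.restrict V fun _ => inf_le_right) s hs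

/-- Every invertible module has a class. -/
lemma exists_adm (L : X.Modules) (hL : PicF.IsInvertible L) : ∃ b, Adm L b := by
  obtain ⟨b, U, hxU, hD⟩ := exists_admData_of_invertible
    (f := (injSC (UnitsSh.unitsAb X)).f) (g := (injSC (UnitsSh.unitsAb X)).g)
    u_hzero u_hacyc L hL
  exact ⟨b, U, hxU, hD⟩

/-- Every class in `H¹(X, O_X^×)` is the class of an invertible module. -/
lemma exists_adm_of_class (c : CohTop.H (UnitsSh.unitsAb X) 1) :
    ∃ (L : X.Modules) (_ : PicF.IsInvertible L) (b : _), Adm L b ∧ dU X b = c := by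
  obtain ⟨b, hb⟩ := delta_surjective (UnitsSh.unitsAb X) c
  obtain ⟨L, hL, U, hxU, hD⟩ := exists_admData_of_section
    (f := (injSC (UnitsSh.unitsAb X)).f) (g := (injSC (UnitsSh.unitsAb X)).g)
    u_hinj u_hex b (u_hloc b)
  exact ⟨L, hL, b, ⟨U, hxU, hD⟩, hb⟩

end

end Groth.Agent.Lib.Helper22.SqZ
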