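import Groth.Agent.Lib.Helper22.SqZ.Thick

/-!
# The kernel of `Pic(X) → Pic(X₀)` for a square-zero thickening (helper22)
-/

set_option autoImplicit false
set_option linter.unusedSectionVars false

universe u

open CategoryTheory CategoryTheory.Limits Opposite AlgebraicGeometry Abelian TopologicalSpace

namespace Groth.Agent.Lib.Helper22.SqZ

open Groth.Agent.Lib.Helper22.Cech Groth.Agent.Lib.Helper22.CohTop
open Groth.Agent.Lib.Helper29.QCoh
open Groth.Agent.Lib.Helper22.ZPic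
open Groth.Agent.Lib.Helper2.UnitsTh

noncomputable section

/-- **The Picard group is `H¹(X, O_X^×)`**, with the description of the isomorphism on classes. -/
theorem exists_picIso_spec (X : Scheme.{u}) [PicGrp.Law X] :
    ∃ Φ : Additive (PicLoc.PicSet X) ≃+ CohTop.H (UnitsSh.unitsAb X) 1,
      ∀ (L : X.Modules) (hL : PicF.IsInvertible L) b, Adm L b →
        Φ (Additive.ofMul (PicGrp.cls L hL)) = dU X b := by
  have hadm : ∀ (L : X.Modules), PicF.IsInvertible L → ∃ b, Adm L b := exists_adm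
  have hΦ : ∀ c : PicLoc.PicSet X, ∃ h : CohTop.H (UnitsSh.unitsAb X) 1,
      ∀ (L : X.Modules) (hL : PicF.IsInvertible L) b, c = PicGrp.cls L hL → Adm L b →
        dU X b = h := by
    intro c
    obtain ⟨L₀, hL₀, hc₀⟩ := PicGrp.exists_eq_cls c
    obtain ⟨b₀, hb₀⟩ := hadm L₀ hL₀
    refine ⟨dU X b₀, fun L hL b hc hb => ?_⟩
    obtain ⟨φ⟩ := (PicGrp.cls_eq_cls_iff hL hL₀).1 (hc.symm.trans hc₀)
    exact hb.delta_eq hb₀ φ
  choose Φ hΦ using hΦ
  have hmul : ∀ c c' : PicLoc.PicSet X, Φ (c * c') = Φ c + Φ c' := by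
    intro c c'
    obtain ⟨L, hL, hc⟩ := PicGrp.exists_eq_cls c
    obtain ⟨L', hL', hc'⟩ := PicGrp.exists_eq_cls c'
    obtain ⟨b, hb⟩ := hadm L hL
    obtain ⟨b', hb'⟩ := hadm L' hL'
    have hcc : c * c' = PicGrp.cls (CohB1.tensorMod L L') (isInvertible_tensorMod hL hL') := by
      apply Subtype.ext
      rw [hc, hc', PicGrp.cls_mul_cls_val]
      rfl
    rw [← hΦ (c * c') _ _ (b + b') hcc (hb.tensor hL hL' hb'), ← hΦ c L hL b hc hb,
      ← hΦ c' L' hL' b' hc' hb', map_add]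
  let Φ' : Additive (PicLoc.PicSet X) →+ CohTop.H (UnitsSh.unitsAb X) 1 :=
    AddMonoidHom.mk' (fun a => Φ a.toMul) (fun a a' => hmul a.toMul a'.toMul)
  have hbij : Function.Bijective Φ' := by
    refine ⟨?_, ?_⟩
    · rw [injective_iff_map_eq_zero]
      intro a ha
      obtain ⟨L, hL, hc⟩ := PicGrp.exists_eq_cls a.toMul
      obtain ⟨b, hb⟩ := hadm L hL
      have h1 : dU X b = 0 := (hΦ a.toMul L hL b hc hb).trans ha
      obtain ⟨s, hs⟩ := (delta_eq_zero_iff _ _).1 h1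
      obtain ⟨U, hxU, ⟨D⟩⟩ := hb
      have hiso := D.nonempty_iso_unit u_hinj u_hex hxU s hs
      have h2 : PicGrp.cls L hL = 1 := by
        rw [← PicGrp.cls_structureModule_eq_one]
        exact (PicGrp.cls_eq_cls_iff hL _).2 hiso
      apply Additive.toMul.injective
      rw [hc, h2]
      rfl
    · intro h
      obtain ⟨b, hb⟩ := delta_surjective (UnitsSh.unitsAb X) h
      obtain ⟨L, hL, U, hxU, hD⟩ := exists_admData_of_section
        (f := (injSC (UnitsSh.unitsAb X)).f) (g := (injSC (UnitsSh.unitsAb X)).g)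
        u_hinj u_hex b (u_hloc b)
      refine ⟨Additive.ofMul (PicGrp.cls L hL), ?_⟩
      change Φ (PicGrp.cls L hL) = h
      rw [← hΦ (PicGrp.cls L hL) L hL b rfl ⟨U, hxU, hD⟩]
      exact hb
  refine ⟨AddEquiv.ofBijective Φ' hbij, fun L hL b hb => ?_⟩
  change Φ (PicGrp.cls L hL) = dU X b
  exact (hΦ (PicGrp.cls L hL) L hL b rfl hb).symm

variable {X : Scheme.{u}} (J : X.IdealSheafData) (hJ : J * J = ⊥)

include hJ in
/-- Global units lift along a square-zero thickening which is surjective on global functions. -/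
lemma surjective_H0_comap (hsurj : Function.Surjective J.subschemeι.appTop.hom) :
    Function.Surjective (Sheaf.H.map (UnitsSh.comap J.subschemeι) 0) := by
  intro y
  have hT : IsTerminal (⊤ : Opens X.toTopCat) := isTerminalTop
  let v : (Γ(J.subscheme, J.subschemeι ⁻¹ᵁ ⊤))ˣ :=
    unitV₁ J.subschemeι (Sheaf.H.equiv₀ (V₁ J.subschemeι) hT y)
  have hsurj' : Function.Surjective (J.subschemeι.app ⊤).hom := hsurj
  obtain ⟨a, ha⟩ := hsurj' (v : Γ(J.subscheme, J.subschemeι ⁻¹ᵁ ⊤))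
  have hnil : ∀ a ∈ RingHom.ker (J.subschemeι.app ⊤).hom, IsNilpotent a := by
    intro a ha
    obtain ⟨f, hf⟩ := exists_ιJ_eq J ⊤ a ha
    refine ⟨2, ?_⟩
    rw [pow_two, ← hf]
    exact ιJ_mul J hJ ⊤ f f
  have hua : IsUnit a := isUnit_of_map_of_ker_nil (J.subschemeι.app ⊤).hom hsurj' hnil a
    (by rw [ha]; exact Units.isUnit v)
  refine ⟨(Sheaf.H.equiv₀ (UnitsSh.unitsAb X) hT).symm (uz ⊤ hua.unit), ?_⟩
  rw [Sheaf.H.equiv₀_symm_naturality]
  apply (Sheaf.H.equiv₀ (V₁ J.subschemeι) hT).injective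
  rw [AddEquiv.apply_symm_apply]
  apply unitV₁_injective
  apply Units.ext
  rw [unitV₁_comap]
  exact ha

section Ker

variable [PicGrp.Law X] [PicGrp.Law J.subscheme] (hi : PicGrp.PullMul J.subschemeι)
  (Φ : Additive (PicLoc.PicSet X) ≃+ CohTop.H (UnitsSh.unitsAb X) 1)
  (hΦ : ∀ (L : X.Modules) (hL : PicF.IsInvertible L) b, Adm L b →
    Φ (Additive.ofMul (PicGrp.cls L hL)) = dU X b)

include hΦ in
/-- The kernel of `Pic(X) → Pic(X₀)` corresponds to the kernel of `H¹(O_X^×) → H¹(i_*O_{X₀}^×)`. -/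
lemma mem_ker_pullHom_iff (c : PicLoc.PicSet X) :
    c ∈ (PicGrp.pullHom J.subschemeι hi).ker ↔
      Sheaf.H.map (UnitsSh.comap J.subschemeι) 1 (Φ (Additive.ofMul c)) = 0 := by
  obtain ⟨L, hL, rfl⟩ := PicGrp.exists_eq_cls c
  obtain ⟨b, hb⟩ := exists_adm L hL
  obtain ⟨b₁, hb₁⟩ := exists_adm (Coh.structureModule X) (PicLoc.isInvertible_structureModule X)
  have h1 : dU X b₁ = 0 := by
    rw [← hΦ _ (PicLoc.isInvertible_structureModule X) b₁ hb₁, PicGrp.cls_structureModule_eq_one]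
    exact map_zero Φ
  rw [MonoidHom.mem_ker, PicGrp.pullHom_cls, PicGrp.cls_eq_one_iff, hΦ L hL b hb]
  have h2 := pull_iso_iff (i := J.subschemeι) hb hb₁
  rw [h1, map_zero] at h2
  rw [← h2]
  constructor
  · rintro ⟨φ⟩
    exact ⟨φ ≪≫ (pullbackUnitIso J.subschemeι).symm⟩
  · rintro ⟨φ⟩
    exact ⟨φ ≪≫ pullbackUnitIso J.subschemeι⟩

include hJ hΦ in
/-- **The kernel of `Pic(X) → Pic(X₀)` is `H¹(X, J)`** for a square-zero ideal `J` with
`Γ(X, O_X) → Γ(X₀, O_{X₀})` surjective. -/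
theorem nonempty_ker_mulEquiv (hsurj : Function.Surjective J.subschemeι.appTop.hom) :
    Nonempty ((PicGrp.pullHom J.subschemeι hi).ker ≃*
      Multiplicative (Coh.HH X (ClSub.idealMod J) 1)) := by
  have hS := expSC_shortExact J hJ
  have hinj : Function.Injective (Sheaf.H.map (φJ J hJ) 1) :=
    injective_H_map_f_succ hS 0 (surjective_H0_comap J hJ hsurj)
  let ψ : Coh.HH X (ClSub.idealMod J) 1 →+ Additive (PicLoc.PicSet X) :=
    Φ.symm.toAddMonoidHom.comp (Sheaf.H.map (φJ J hJ) 1)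
  have hψ : ∀ m, Φ (ψ m) = Sheaf.H.map (φJ J hJ) 1 m := fun m => Φ.apply_symm_apply _
  have hmem : ∀ m, (ψ m).toMul ∈ (PicGrp.pullHom J.subschemeι hi).ker := by
    intro m
    rw [mem_ker_pullHom_iff J hi Φ hΦ]
    change Sheaf.H.map (UnitsSh.comap J.subschemeι) 1 (Φ (ψ m)) = 0
    rw [hψ]
    exact H_map_f_g (S := expSC J hJ) 1 m
  let θ : Multiplicative (Coh.HH X (ClSub.idealMod J) 1) →*
      (PicGrp.pullHom J.subschemeι hi).ker :=
    (AddMonoidHom.toMultiplicativeLeft ψ).codRestrict _ hmem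
  have hθ : ∀ m, ((θ m : PicLoc.PicSet X)) = (ψ m.toAdd).toMul := fun m => rfl
  have hbij : Function.Bijective θ := by
    constructor
    · intro m m' h
      have h1 : ψ m.toAdd = ψ m'.toAdd := by
        have := congrArg Subtype.val h
        rw [hθ, hθ] at this
        exact Additive.toMul.injective this
      have h2 : Sheaf.H.map (φJ J hJ) 1 m.toAdd = Sheaf.H.map (φJ J hJ) 1 m'.toAdd := by
        rw [← hψ, ← hψ, h1]
      exact Multiplicative.toAdd.injective (hinj h2)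
    · intro k
      have hk := (mem_ker_pullHom_iff J hi Φ hΦ k.1).1 k.2
      obtain ⟨y, hy⟩ := ker_H_map_g hS 1 _ hk
      refine ⟨Multiplicative.ofAdd y, Subtype.ext ?_⟩
      rw [hθ]
      change (ψ y).toMul = k.1
      have : ψ y = Additive.ofMul k.1 := by
        apply Φ.injective
        rw [hψ]
        exact hy
      rw [this]
      rfl
  exact ⟨(MulEquiv.ofBijective θ hbij).symm⟩

end Ker

end

end Groth.Agent.Lib.Helper22.SqZ
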