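import Groth.Agent.Lib.Helper22.SqZ.PicKer

/-!
# The class map `Pic(X₀) → H¹(X, i_* O_{X₀}^×)` for a square-zero thickening (helper22)
-/

set_option autoImplicit false
set_option linter.unusedSectionVars false

universe u

open CategoryTheory CategoryTheory.Limits Opposite AlgebraicGeometry Abelian TopologicalSpace

namespace Groth.Agent.Lib.Helper22.SqZ

open Groth.Agent.Lib.Helper22.Cech Groth.Agent.Lib.Helper22.CohTop
open Groth.Agent.Lib.Helper29.QCoh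
open Groth.Agent.Lib.Helper22.ZPic
open Groth.Agent.Lib.Helper2.UnitsTh

noncomputable section

section Tensor

variable {X Z : Scheme.{u}} {i : Z ⟶ X}
variable {I₀ Q₀ : CohTop.Ab X.toTopCat} {f₀ : V₁ i ⟶ I₀} {g₀ : I₀ ⟶ Q₀}

/-- Tensor product of the data. -/
def AdmDataZ.tensor {L₀ L₀' : Z.Modules} [L₀.IsQuasicoherent] [L₀'.IsQuasicoherent]
    {b b' : Q₀.obj.obj (op (⊤ : X.Opens))}
    {U : X → X.Opens} (D : AdmDataZ i f₀ g₀ L₀ b U) (D' : AdmDataZ i f₀ g₀ L₀' b' U) :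
    AdmDataZ i f₀ g₀ (CohB1.tensorMod L₀ L₀') (b + b') U where
  e x := tmulSec L₀ L₀' (D.e x) (D'.e x)
  triv x := (D.triv x).tensor (D'.triv x)
  t x := D.t x + D'.t x
  gt x := by rw [map_add, map_add, D.gt, D'.gt]
  γ x y := D.γ x y * D'.γ x y
  hγe x y := by
    rw [res_tmulSec, res_tmulSec, D.hγe, D'.hγe, tmulSec_smul_left, tmulSec_smul_right,
      smul_smul, Units.val_mul, mul_comm]
  hγt x y := by
    rw [fzZ_mul, D.hγt, D'.hγt, map_add, map_add]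
    abel

lemma AdmZ.tensor {L₀ L₀' : Z.Modules} (hL : PicF.IsInvertible L₀) (hL' : PicF.IsInvertible L₀')
    {b b' : (injSC (V₁ i)).X₃.obj.obj (op (⊤ : X.Opens))}
    (h : AdmZ i L₀ b) (h' : AdmZ i L₀' b') : AdmZ i (CohB1.tensorMod L₀ L₀') (b + b') := by
  obtain ⟨U, hxU, ⟨D⟩⟩ := h
  obtain ⟨U', hxU', ⟨D'⟩⟩ := h'
  have := isQuasicoherent_of_isInvertible hL
  have := isQuasicoherent_of_isInvertible hL'
  exact ⟨fun x => U x ⊓ U' x, fun x => ⟨hxU x, hxU' x⟩,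
    ⟨(D.restrict _ fun _ => inf_le_left).tensor (D'.restrict _ fun _ => inf_le_right)⟩⟩

end Tensor

variable {X : Scheme.{u}} (J : X.IdealSheafData) (hJ : J * J = ⊥)

include hJ in
/-- The class map `Pic(X₀) → H¹(X, i_* O_{X₀}^×)`: an injective homomorphism compatible with
pullback of classes from `X`. -/
theorem exists_picZ_hom [PicGrp.Law J.subscheme] :
    ∃ Ψ : Additive (PicLoc.PicSet J.subscheme) →+ CohTop.H (V₁ J.subschemeι) 1,
      Function.Injective Ψ ∧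
      ∀ (L₀ : J.subscheme.Modules) (hL₀ : PicF.IsInvertible L₀) b, AdmZ J.subschemeι L₀ b →
        Ψ (Additive.ofMul (PicGrp.cls L₀ hL₀)) = dZ J.subschemeι b := by
  have hadm : ∀ (L₀ : J.subscheme.Modules), PicF.IsInvertible L₀ →
      ∃ b, AdmZ J.subschemeι L₀ b :=
    fun L₀ hL₀ => exists_admZ J.subschemeι L₀ (hloc_of_invertible J hJ L₀ hL₀)
  have hΦ : ∀ c : PicLoc.PicSet J.subscheme, ∃ h : CohTop.H (V₁ J.subschemeι) 1,
      ∀ (L₀ : J.subscheme.Modules) (hL₀ : PicF.IsInvertible L₀) b, c = PicGrp.cls L₀ hL₀ →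
        AdmZ J.subschemeι L₀ b → dZ J.subschemeι b = h := by
    intro c
    obtain ⟨L₁, hL₁, hc₁⟩ := PicGrp.exists_eq_cls c
    obtain ⟨b₁, hb₁⟩ := hadm L₁ hL₁
    refine ⟨dZ J.subschemeι b₁, fun L₀ hL₀ b hc hb => ?_⟩
    obtain ⟨φ⟩ := (PicGrp.cls_eq_cls_iff hL₀ hL₁).1 (hc.symm.trans hc₁)
    exact hb.delta_eq hb₁ φ
  choose Φ hΦ using hΦ
  have hmul : ∀ c c' : PicLoc.PicSet J.subscheme, Φ (c * c') = Φ c + Φ c' := by
    intro c c'
    obtain ⟨L, hL, hc⟩ := PicGrp.exists_eq_cls c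
    obtain ⟨L', hL', hc'⟩ := PicGrp.exists_eq_cls c'
    obtain ⟨b, hb⟩ := hadm L hL
    obtain ⟨b', hb'⟩ := hadm L' hL'
    have hcc : c * c' = PicGrp.cls (CohB1.tensorMod L L') (isInvertible_tensorMod hL hL') := by
      apply Subtype.ext
      rw [hc, hc', PicGrp.cls_mul_cls_val]
      rfl
    rw [← hΦ (c * c') _ _ (b + b') hcc (hb.tensor hL hL' hb'), ← hΦ c L hL b hc hb,
      ← hΦ c' L' hL' b' hc' hb', map_add]
  let Φ' : Additive (PicLoc.PicSet J.subscheme) →+ CohTop.H (V₁ J.subschemeι) 1 :=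
    AddMonoidHom.mk' (fun a => Φ a.toMul) (fun a a' => hmul a.toMul a'.toMul)
  refine ⟨Φ', ?_, fun L₀ hL₀ b hb => ?_⟩
  · intro a a' haa
    obtain ⟨L, hL, hc⟩ := PicGrp.exists_eq_cls a.toMul
    obtain ⟨L', hL', hc'⟩ := PicGrp.exists_eq_cls a'.toMul
    obtain ⟨b, hb⟩ := hadm L hL
    obtain ⟨b', hb'⟩ := hadm L' hL'
    have h1 : dZ J.subschemeι b = dZ J.subschemeι b' := by
      rw [hΦ a.toMul L hL b hc hb, hΦ a'.toMul L' hL' b' hc' hb']
      exact haa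
    obtain ⟨φ⟩ := hb.nonempty_iso hb' h1
    apply Additive.toMul.injective
    rw [hc, hc']
    exact (PicGrp.cls_eq_cls_iff hL hL').2 ⟨φ⟩
  · change Φ (PicGrp.cls L₀ hL₀) = dZ J.subschemeι b
    exact (hΦ (PicGrp.cls L₀ hL₀) L₀ hL₀ b rfl hb).symm

end

end Groth.Agent.Lib.Helper22.SqZ
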